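import Groth.Agent.MultTypeLib.GenMultType
import Groth.Agent.MultTypeLib.QuasiIso
import Groth.Agent.MultTypeLib.Build
import Groth.Agent.GrpSchLib.MultTypeLfp
import Groth.Prelude.Def_TwC

/-!
# Groups of multiplicative type and of finite type are diagonalisable etale-locally
-/

universe u

open CategoryTheory CategoryTheory.Limits MonoidalCategory CartesianMonoidalCategory MonObj AlgebraicGeometry
open TensorProduct

namespace Groth.Agent.MultTypeQI

open GrpSchLib.AffineHopf GrpSchLib MultTypeLib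

/-- A finitely generated commutative group has a copy in `Type`. -/
theorem exists_small_group (M : Type u) [CommGroup M] (h : Group.FG M) :
    ∃ (N : Type) (_ : AddCommGroup N), AddGroup.FG N ∧ Nonempty (Multiplicative N ≃* M) := by
  classical
  obtain ⟨s, hs⟩ := h.out
  let l : s → M := fun x => x.1
  obtain ⟨k, g, hg⟩ : ∃ (k : ℕ) (g : (Fin k → ℤ) →+ Additive M), Function.Surjective g := by
    let e := s.equivFin
    refine ⟨s.card, (Fintype.linearCombination ℤ fun i => Additive.ofMul ((e.symm i : s) : M)).toAddMonoidHom, ?_⟩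
    intro x
    have hx : x ∈ Submodule.span ℤ (Set.range fun i => Additive.ofMul ((e.symm i : s) : M)) := by
      have key : ∀ m ∈ Subgroup.closure (s : Set M), Additive.ofMul m ∈
          Submodule.span ℤ (Set.range fun i => Additive.ofMul ((e.symm i : s) : M)) := by
        intro m hm
        induction hm using Subgroup.closure_induction with
        | mem y hy => exact Submodule.subset_span ⟨e ⟨y, hy⟩, by simp⟩
        | one => exact zero_mem _
        | mul a b _ _ ha hb => exact add_mem ha hb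
        | inv a _ ha => exact neg_mem ha
      exact key x.toMul (hs ▸ Subgroup.mem_top _)
    rw [Submodule.mem_span_range_iff_exists_fun] at hx
    obtain ⟨c, hc⟩ := hx
    exact ⟨c, by simpa [Fintype.linearCombination_apply] using hc⟩
  let q := QuotientAddGroup.quotientKerEquivOfSurjective g hg
  refine ⟨(Fin k → ℤ) ⧸ g.ker, inferInstance, inferInstance, ⟨?_⟩⟩
  exact (AddEquiv.toMultiplicative q).trans ⟨Equiv.refl _, fun _ _ => rfl⟩

/-- Quasi-isotriviality of groups of multiplicative type and of finite type. -/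
theorem etale_locally_diag {S : Scheme.{u}} {H : Over S} [GrpObj H] (hH : SGA3x.IsMultTypeFT H) :
    TwC.Locally S TwC.Topology.etale (fun S' f => ∃ (M : Type) (_ : AddCommGroup M),
      AddGroup.FG M ∧ Nonempty (Grp.mk (Red.bc f H) ≅ Grp.mk (Red.DS S' M))) := by
  intro s
  obtain ⟨V, hV, hsV, -⟩ := exists_isAffineOpen_mem_and_subset (show s ∈ (⊤ : S.Opens) from trivial)
  let R : Type u := Γ(S, V)
  let j : Spec (CommRingCat.of R) ⟶ S := hV.fromSpec
  have hHj : SGA3x.IsMultTypeFT (Red.bc j H) := MultTypeBC.isMultTypeFT_bc j hH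
  obtain ⟨A, _, _, hA, ⟨eA⟩⟩ := SchemeBridge.exists_hopf_multType (Red.bc j H) hHj
  haveI hft : Algebra.FiniteType R A := by
    haveI := MultTypeLfp.lfp hHj
    haveI : IsIso eA.hom.hom.hom.left :=
      ⟨eA.inv.hom.hom.left, congrArg (fun h => h.hom.hom.left) eA.hom_inv_id,
        congrArg (fun h => h.hom.hom.left) eA.inv_hom_id⟩
    haveI : LocallyOfFiniteType (sp R A).hom := by
      rw [← Over.w eA.hom.hom.hom]
      infer_instance
    exact RingHom.finiteType_algebraMap.mp ((HasRingHomProperty.Spec_iff (P := @LocallyOfFiniteType)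
      (φ := CommRingCat.ofHom (algebraMap R A))).mp ‹LocallyOfFiniteType (sp R A).hom›)
  obtain ⟨t, ht, hC⟩ := isQuasiIsotrivial_of_isMultType hft hA
  obtain ⟨p, hp⟩ : s ∈ Set.range j := by rw [hV.range_fromSpec]; exact hsV
  obtain ⟨g, hgt, hgp⟩ : ∃ g ∈ t, g ∉ p.asIdeal := by
    by_contra hne
    push Not at hne
    exact p.2.ne_top ((Ideal.eq_top_iff_one _).mpr (Ideal.span_le.mpr hne (ht ▸ Submodule.mem_top)))
  obtain ⟨E, _, _, het, hff, hd⟩ := hC g hgt
  let Rg := Localization.Away g
  let _ : Algebra R E := ((algebraMap Rg E).comp (algebraMap R Rg)).toAlgebra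
  haveI : IsScalarTower R Rg E := IsScalarTower.of_algebraMap_eq fun _ => rfl
  haveI : Algebra.Etale R Rg := Algebra.Etale.of_isLocalizationAway g
  haveI : Algebra.Etale R E := Algebra.Etale.comp R Rg E
  obtain ⟨M, _, ⟨eM⟩⟩ := isDiag_congr (baseChangeTrans (R := R) Rg E A).symm hd
  obtain ⟨p', hp'⟩ : p ∈ Set.range (PrimeSpectrum.comap (algebraMap R Rg)) := by
    rw [PrimeSpectrum.localization_away_comap_range Rg g]
    exact hgp
  obtain ⟨q, hq⟩ := PrimeSpectrum.comap_surjective_of_faithfullyFlat (A := Rg) (B := E) p'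
  haveI : Nontrivial E := q.nontrivial
  have hM : Group.FG M := by
    haveI : Algebra.FiniteType E (MonoidAlgebra E M) :=
      Algebra.FiniteType.equiv (inferInstanceAs (Algebra.FiniteType E (E ⊗[R] A))) eM.toAlgEquiv
    exact MonoidAlgebra.finiteType_iff_group_fg.mp this
  obtain ⟨N, _, hN, ⟨eN⟩⟩ := exists_small_group M hM
  let v : Spec (CommRingCat.of E) ⟶ Spec (CommRingCat.of R) := Spec.map (CommRingCat.ofHom (algebraMap R E))
  haveI : Etale v := (HasRingHomProperty.Spec_iff (P := @Etale)).mpr (RingHom.etale_algebraMap.mpr ‹_›)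
  refine ⟨Spec (CommRingCat.of E), v ≫ j, inferInstance, ⟨q, ?_⟩, N, inferInstance, hN, ?_⟩
  · rw [Scheme.Hom.comp_apply]
    refine (congrArg j ?_).trans hp
    show PrimeSpectrum.comap (algebraMap R E) q = p
    rw [show algebraMap R E = (algebraMap Rg E).comp (algebraMap R Rg) from rfl, PrimeSpectrum.comap_comp_apply,
      hq, hp']
  · obtain ⟨e₁⟩ := MultTypeBC.bc_bc v j H
    obtain ⟨e₂⟩ := MultTypeBC.bc_iso v eA
    obtain ⟨e₃⟩ := nonempty_bc_sp (R := R) E A
    obtain ⟨e₄⟩ := nonempty_DS_iso E N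
    exact ⟨e₁.symm ≪≫ e₂.symm ≪≫ e₃ ≪≫
      spIso ((MonoidAlgebra.domCongrBialgEquiv E E eN).trans eM.symm) ≪≫ e₄⟩

end Groth.Agent.MultTypeQI
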