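import Groth.Agent.MultTypeQI.EtaleLocal
import Groth.Agent.FpqcDescLib.Closed
import Groth.Agent.GrpSchLib.SubgroupEqLocus

/-!
# Recognising groups of multiplicative type
-/

universe u

open CategoryTheory CategoryTheory.Limits MonoidalCategory CartesianMonoidalCategory MonObj AlgebraicGeometry
open TensorProduct

namespace Groth.Agent.MultTypeQI

open GrpSchLib.AffineHopf GrpSchLib MultTypeLib

set_option backward.isDefEq.respectTransparency.types false

/-- The spectrum of a Hopf algebra of multiplicative type and of finite type is diagonalisable etale locally. -/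
theorem etale_nhd_of_hopf {R : Type u} [CommRing R] {A : Type u} [CommRing A] [HopfAlgebra R A]
    (hft : Algebra.FiniteType R A) (hA : SGA3b.IsMultType R A) (X : Over (Spec (CommRingCat.of R))) [GrpObj X]
    (eA : Grp.mk (sp R A) ≅ Grp.mk X) (p : PrimeSpectrum R) :
    ∃ (S' : Scheme.{u}) (f : S' ⟶ Spec (CommRingCat.of R)), Etale f ∧ (∃ y, f y = p) ∧
      ∃ (M : Type) (_ : AddCommGroup M), AddGroup.FG M ∧
        Nonempty (Grp.mk (Red.bc f X) ≅ Grp.mk (Red.DS S' M)) := by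
  obtain ⟨t, ht, hC⟩ := isQuasiIsotrivial_of_isMultType hft hA
  obtain ⟨g, hgt, hgp⟩ : ∃ g ∈ t, g ∉ p.asIdeal := by
    by_contra hne
    push Not at hne
    exact p.2.ne_top ((Ideal.eq_top_iff_one _).mpr (Ideal.span_le.mpr hne (ht ▸ Submodule.mem_top)))
  obtain ⟨E, _, _, het, hff, hd⟩ := hC g hgt
  let Rg := Localization.Away g
  let _ : Algebra R E := ((algebraMap Rg E).comp (algebraMap R Rg)).toAlgebra
  haveI : IsScalarTower R Rg E := IsScalarTower.of_algebraMap_eq fun _ => rfl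
  haveI : Algebra.Etale R Rg := Algebra.Etale.of_isLocalizationAway g
  haveI : Algebra.Etale R E := Algebra.Etale.comp R Rg E
  obtain ⟨M, _, ⟨eM⟩⟩ := isDiag_congr (baseChangeTrans (R := R) Rg E A).symm hd
  obtain ⟨p', hp'⟩ : p ∈ Set.range (PrimeSpectrum.comap (algebraMap R Rg)) := by
    rw [PrimeSpectrum.localization_away_comap_range Rg g]
    exact hgp
  obtain ⟨q, hq⟩ := PrimeSpectrum.comap_surjective_of_faithfullyFlat (A := Rg) (B := E) p'
  haveI : Nontrivial E := q.nontrivial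
  have hM : Group.FG M := by
    haveI : Algebra.FiniteType E (MonoidAlgebra E M) :=
      Algebra.FiniteType.equiv (inferInstanceAs (Algebra.FiniteType E (E ⊗[R] A))) eM.toAlgEquiv
    exact MonoidAlgebra.finiteType_iff_group_fg.mp this
  obtain ⟨N, _, hN, ⟨eN⟩⟩ := exists_small_group M hM
  let v : Spec (CommRingCat.of E) ⟶ Spec (CommRingCat.of R) := Spec.map (CommRingCat.ofHom (algebraMap R E))
  haveI : Etale v := (HasRingHomProperty.Spec_iff (P := @Etale)).mpr (RingHom.etale_algebraMap.mpr ‹_›)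
  refine ⟨Spec (CommRingCat.of E), v, inferInstance, ⟨q, ?_⟩, N, inferInstance, hN, ?_⟩
  · show PrimeSpectrum.comap (algebraMap R E) q = p
    rw [show algebraMap R E = (algebraMap Rg E).comp (algebraMap R Rg) from rfl, PrimeSpectrum.comap_comp_apply,
      hq, hp']
  · obtain ⟨e₂⟩ := MultTypeBC.bc_iso v eA
    obtain ⟨e₃⟩ := nonempty_bc_sp (R := R) E A
    obtain ⟨e₄⟩ := nonempty_DS_iso E N
    exact ⟨e₂.symm ≪≫ e₃ ≪≫
      spIso ((MonoidAlgebra.domCongrBialgEquiv E E eN).trans eM.symm) ≪≫ e₄⟩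

/-- A group which is diagonalisable of finite type etale locally is of multiplicative type. -/
theorem isMultTypeFT_of_etale_locally {S : Scheme.{u}} {H : Over S} [GrpObj H]
    (h : ∀ s : S, ∃ (S' : Scheme.{u}) (f : S' ⟶ S), Etale f ∧ (∃ y, f y = s) ∧
      ∃ (M : Type) (_ : AddCommGroup M), AddGroup.FG M ∧ Nonempty (Grp.mk (Red.bc f H) ≅ Grp.mk (Red.DS S' M))) :
    SGA3x.IsMultTypeFT H := by
  choose S' f hf hs M hM hfg hiso using h
  haveI : ∀ s, Etale (f s) := hf
  let F : (∐ S') ⟶ S := Sigma.desc f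
  haveI : Etale F := IsZariskiLocalAtSource.sigmaDesc (P := @Etale) hf
  haveI : Surjective F := ⟨fun x => by
    obtain ⟨y, hy⟩ := hs x
    exact ⟨Sigma.ι S' x y, by rw [← Scheme.Hom.comp_apply, Sigma.ι_desc]; exact hy⟩⟩
  refine ⟨∐ S', F, inferInstance, inferInstance,
    (SubgroupEqLocus.flat_hcov_of_isCovering (FpqcDescLib.isCovering_of_lfp F)).2, fun z => ?_⟩
  obtain ⟨s, y, hy⟩ := (sigmaOpenCover S').exists_eq z
  refine ⟨(Sigma.ι S' s).opensRange, ⟨y, hy⟩, M s, hM s, hfg s, ?_⟩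
  obtain ⟨e⟩ := hiso s
  let v := (Sigma.ι S' s).isoOpensRange.inv
  obtain ⟨e₁⟩ := MultTypeBC.bc_bc v (f s) H
  obtain ⟨e₂⟩ := MultTypeBC.bc_congr (show (Sigma.ι S' s).opensRange.ι ≫ F = v ≫ f s by
    rw [← Scheme.Hom.isoOpensRange_inv_comp, Category.assoc, Sigma.ι_desc]) H
  obtain ⟨e₃⟩ := MultTypeBC.bc_iso v e
  obtain ⟨e₄⟩ := MultTypeBC.bc_DS v (M s)
  exact ⟨e₂ ≪≫ e₁.symm ≪≫ e₃ ≪≫ e₄⟩

end Groth.Agent.MultTypeQI
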