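import Groth.Agent.MultTypeQI.Recognize
import Groth.Agent.MultTypeLib.SubgroupLift
import Groth.Agent.MultTypeLib.Sub
import Groth.Agent.MultTypeLib.Torsion
import Groth.Agent.MultTypeLib.HopfKer
import Groth.Agent.GrpSchLib.SimpleFinite
import Groth.Agent.GrpSchLib.QuasiFinitePow
import Groth.Agent.S5264
import Groth.Agent.GrpSchLib.HomSplitLocal
import Groth.Agent.S5242

/-!
# Flat closed subgroups of groups of multiplicative type
-/

universe u

open CategoryTheory CategoryTheory.Limits MonoidalCategory CartesianMonoidalCategory MonObj AlgebraicGeometry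
open TensorProduct WithConv

namespace Groth.Agent.MultTypeQI

open GrpSchLib.AffineHopf GrpSchLib MultTypeLib

set_option backward.isDefEq.respectTransparency.types false
set_option maxHeartbeats 400000

variable {R : Type u} [CommRing R] {A C : Type u} [CommRing A] [HopfAlgebra R A] [CommRing C] [HopfAlgebra R C]

theorem isCocomm_of_surjective [Coalgebra.IsCocomm R A] (φ : A →ₐc[R] C) (hφ : Function.Surjective φ) :
    Coalgebra.IsCocomm R C := ⟨by
  refine LinearMap.ext fun c => ?_
  obtain ⟨a, rfl⟩ := hφ c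
  show TensorProduct.comm R C C (Coalgebra.comul (φ a)) = Coalgebra.comul (φ a)
  rw [← CoalgHomClass.map_comp_comul_apply φ a]
  conv_rhs => rw [← Coalgebra.comm_comul R a]
  exact (DFunLike.congr_fun (TensorProduct.map_comp_comm_eq (φ : A →ₗ[R] C) (φ : A →ₗ[R] C))
    (Coalgebra.comul a)).symm⟩

theorem comap_powConv (φ : A →ₐc[R] C) (n : ℕ) :
    (φ : A →ₐ[R] C).comp (SGA3b.powConv R A n) = (SGA3b.powConv R C n).comp (φ : A →ₐ[R] C) := by
  have h1 := GrpSchLib.QuasiFinitePow.comp_powConv (φ : A →ₐ[R] C) n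
  have key : ∀ k : ℕ, toConv ((SGA3b.powConv R C k).comp (φ : A →ₐ[R] C)) = toConv (φ : A →ₐ[R] C) ^ k := by
    intro k
    induction k with
    | zero =>
      refine WithConv.ext (AlgHom.ext fun x => ?_)
      simp [SGA3b.powConv, AlgHom.convOne_def]
    | succ k ih =>
      rw [pow_succ, ← ih]
      refine WithConv.ext ?_
      rw [show SGA3b.powConv R C (k + 1) = ((toConv (AlgHom.id R C)) ^ k * toConv (AlgHom.id R C)).ofConv from
        congrArg WithConv.ofConv (pow_succ _ k)]
      refine (AlgHom.convMul_comp_bialgHom_distrib _ _ φ).trans ?_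
      rfl
  exact congrArg WithConv.ofConv (h1.trans (key n).symm)

theorem map_torsionIdeal_le (φ : A →ₐc[R] C) (n : ℕ) :
    (SGA3b.torsionIdeal R A n).map (φ : A →ₐ[R] C) ≤ SGA3b.torsionIdeal R C n := by
  rw [SGA3b.torsionIdeal, Ideal.map_le_iff_le_comap, Ideal.map_le_iff_le_comap]
  intro x hx
  rw [Ideal.mem_comap, Ideal.mem_comap]
  show (φ : A →ₐ[R] C) (SGA3b.powConv R A n x) ∈ _
  rw [show (φ : A →ₐ[R] C) (SGA3b.powConv R A n x) = SGA3b.powConv R C n (φ x) from
    DFunLike.congr_fun (comap_powConv φ n) x]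
  refine Ideal.mem_map_of_mem _ ?_
  rw [RingHom.mem_ker] at hx ⊢
  show Coalgebra.counit (R := R) (φ x) = 0
  rw [CoalgHomClass.counit_comp_apply φ]
  exact hx

/-- A flat closed subgroup of finite presentation of a group of multiplicative type, in Hopf algebra form. -/
theorem isMultType_of_closed (hA : SGA3b.IsMultType R A) (hft : Algebra.FiniteType R A)
    (φ : A →ₐc[R] C) (hφ : Function.Surjective φ) [Module.Flat R C] (hfp : Algebra.FinitePresentation R C) :
    SGA3b.IsMultType R C := by
  haveI := isCocomm_of_isMultType hA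
  haveI := isCocomm_of_surjective φ hφ
  refine S5264.result R C hfp (fun p hp => ?_) fun n hn => ?_
  · let k := p.ResidueField
    let π : k ⊗[R] A →ₐc[k] k ⊗[R] C := Bialgebra.TensorProduct.map (BialgHom.id k k) φ
    have hπ : Function.Surjective π := by
      intro y
      induction y using TensorProduct.induction_on with
      | zero => exact ⟨0, map_zero _⟩
      | add y₁ y₂ h₁ h₂ =>
        obtain ⟨z₁, rfl⟩ := h₁
        obtain ⟨z₂, rfl⟩ := h₂
        exact ⟨z₁ + z₂, map_add _ _ _⟩
      | tmul c b =>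
        obtain ⟨a, rfl⟩ := hφ b
        exact ⟨c ⊗ₜ a, rfl⟩
    let J := RingHom.ker (π : k ⊗[R] A →ₐ[k] k ⊗[R] C)
    haveI : J.IsHopfIdeal k := GrpSchLib.isHopfIdeal_ker π fun a ha => by
      rw [← antipode_comm π a, ha, map_zero]
    have hJ := isMultType_quotient_of_field (MultTypeLib.isMultType_baseChange k hA) J
    let e : ((k ⊗[R] A) ⧸ J) ≃ₐ[k] k ⊗[R] C := Ideal.quotientKerAlgEquivOfSurjective hπ
    have he : ∀ a, e (Bialgebra.Quotient.mkBialgHom (R := k) J a) = π a := fun a => rfl
    refine isMultType_congr (BialgEquiv.ofAlgEquiv e ?_ ?_) hJ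
    · refine AlgHom.ext fun z => ?_
      obtain ⟨a, rfl⟩ := Ideal.Quotient.mk_surjective z
      show Bialgebra.counitAlgHom k _ (π a) = _
      exact (CoalgHomClass.counit_comp_apply π a).trans
        (CoalgHomClass.counit_comp_apply (Bialgebra.Quotient.mkBialgHom (R := k) J) a).symm
    · refine AlgHom.ext fun z => ?_
      obtain ⟨a, rfl⟩ := Ideal.Quotient.mk_surjective z
      show Algebra.TensorProduct.map (e : _ →ₐ[k] _) (e : _ →ₐ[k] _)
          (Coalgebra.comul (Bialgebra.Quotient.mkBialgHom (R := k) J a)) = Coalgebra.comul (π a)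
      rw [← CoalgHomClass.map_comp_comul_apply π a,
        ← CoalgHomClass.map_comp_comul_apply (Bialgebra.Quotient.mkBialgHom (R := k) J) a]
      induction Coalgebra.comul (R := k) a using TensorProduct.induction_on with
      | zero => simp
      | add s t hs ht => simp only [map_add, hs, ht]
      | tmul s t => rfl
  · obtain ⟨hmt, hfin⟩ : True ∧ Module.Finite R (A ⧸ SGA3b.torsionIdeal R A n) := ⟨trivial, by
      haveI : (SGA3b.torsionIdeal R A n).IsHopfIdeal R := isHopfIdeal_torsionIdeal hA n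
      exact (S5242.result R A hft hA n hn _ rfl).2⟩
    let q : (A ⧸ SGA3b.torsionIdeal R A n) →ₐ[R] C ⧸ SGA3b.torsionIdeal R C n :=
      Ideal.quotientMapₐ _ (φ : A →ₐ[R] C) (Ideal.map_le_iff_le_comap.1 (map_torsionIdeal_le φ n))
    exact Module.Finite.of_surjective q.toLinearMap fun z => by
      obtain ⟨c, rfl⟩ := Ideal.Quotient.mk_surjective z
      obtain ⟨a, rfl⟩ := hφ c
      exact ⟨Ideal.Quotient.mk _ a, rfl⟩

end Groth.Agent.MultTypeQI

namespace Groth.Agent.MultTypeQI

open GrpSchLib.AffineHopf GrpSchLib MultTypeLib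

/-- A flat closed subgroup of finite presentation of a group of multiplicative type is of multiplicative type. -/
theorem isMultTypeFT_of_closedSubgroup {S : Scheme.{u}} {H H' : Over S} [GrpObj H] [GrpObj H']
    (hH' : SGA3x.IsMultTypeFT H') (i : H ⟶ H') [IsMonHom i] (hi : IsClosedImmersion i.left)
    (hfl : Flat H.hom) (hfp : LocallyOfFinitePresentation H.hom) : SGA3x.IsMultTypeFT H := by
  refine isMultTypeFT_of_etale_locally fun s => ?_
  obtain ⟨V, hV, hsV, -⟩ := exists_isAffineOpen_mem_and_subset (show s ∈ (⊤ : S.Opens) from trivial)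
  let R : Type u := Γ(S, V)
  let j : Spec (CommRingCat.of R) ⟶ S := hV.fromSpec
  have hHj : SGA3x.IsMultTypeFT (Red.bc j H') := MultTypeBC.isMultTypeFT_bc j hH'
  obtain ⟨A, _, _, hA, ⟨eA⟩⟩ := SchemeBridge.exists_hopf_multType (Red.bc j H') hHj
  let aA : Red.bc j H' ⟶ sp R A := eA.inv.hom.hom
  haveI : IsMonHom aA := eA.inv.hom.isMonHom_hom
  haveI : IsIso aA.left := ⟨eA.hom.hom.hom.left, congrArg (fun h => h.hom.hom.left) eA.inv_hom_id,
    congrArg (fun h => h.hom.hom.left) eA.hom_inv_id⟩
  haveI hft : Algebra.FiniteType R A := by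
    haveI := MultTypeLfp.lfp hHj
    haveI : IsIso eA.hom.hom.hom.left :=
      ⟨eA.inv.hom.hom.left, congrArg (fun h => h.hom.hom.left) eA.hom_inv_id,
        congrArg (fun h => h.hom.hom.left) eA.inv_hom_id⟩
    haveI : LocallyOfFiniteType (sp R A).hom := by
      rw [← Over.w eA.hom.hom.hom]
      infer_instance
    exact RingHom.finiteType_algebraMap.mp ((HasRingHomProperty.Spec_iff (P := @LocallyOfFiniteType)
      (φ := CommRingCat.ofHom (algebraMap R A))).mp ‹LocallyOfFiniteType (sp R A).hom›)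
  let k : Red.bc j H ⟶ Red.bc j H' := (Over.pullback j).map i
  haveI : IsMonHom k := inferInstanceAs (IsMonHom ((Over.pullback j).map i))
  haveI : IsClosedImmersion k.left :=
    MorphismProperty.of_isPullback (P := @IsClosedImmersion) (HomSplitLocal.isPullback_map i j) hi
  haveI : IsAffine (sp R A).left := isAffine_Spec (CommRingCat.of A)
  haveI : IsAffine (Red.bc j H').left := IsAffine.of_isIso aA.left
  haveI : IsAffine (Red.bc j H).left := isAffine_of_isAffineHom k.left
  obtain ⟨C, _, _, ⟨eC⟩⟩ := exists_hopf (Red.bc j H)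
  let aC : sp R C ⟶ Red.bc j H := eC.hom.hom.hom
  haveI : IsMonHom aC := eC.hom.hom.isMonHom_hom
  haveI : IsIso aC.left := ⟨eC.inv.hom.hom.left, congrArg (fun h => h.hom.hom.left) eC.hom_inv_id,
    congrArg (fun h => h.hom.hom.left) eC.inv_hom_id⟩
  obtain ⟨φ, hφ⟩ := exists_bialgHom (aC ≫ k ≫ aA)
  have hsurj : Function.Surjective φ := by
    haveI : IsClosedImmersion (Spec.map (CommRingCat.ofHom (φ : A →ₐ[R] C).toRingHom)) := by
      have h1 : IsClosedImmersion (aC ≫ k ≫ aA).left := by
        rw [Over.comp_left, Over.comp_left]; infer_instance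
      rwa [hφ] at h1
    obtain ⟨-, h2⟩ := IsClosedImmersion.isAffine_surjective_of_isAffine
      (Spec.map (CommRingCat.ofHom (φ : A →ₐ[R] C).toRingHom))
    intro c
    obtain ⟨a, ha⟩ := h2 ((Scheme.ΓSpecIso (CommRingCat.of C)).inv c)
    refine ⟨(Scheme.ΓSpecIso (CommRingCat.of A)).hom a, ?_⟩
    have := congrArg (fun ψ => (ConcreteCategory.hom ψ) a)
      (Scheme.ΓSpecIso_naturality (CommRingCat.ofHom (φ : A →ₐ[R] C).toRingHom))
    refine this.symm.trans ?_
    show (Scheme.ΓSpecIso (CommRingCat.of C)).hom _ = c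
    erw [ha]
    exact (Scheme.ΓSpecIso (CommRingCat.of C)).inv_hom_id_apply c
  haveI : Flat (sp R C).hom := by
    haveI : Flat (Red.bc j H).hom := inferInstanceAs (Flat (pullback.snd H.hom j))
    rw [← Over.w aC]
    infer_instance
  haveI : Module.Flat R C := RingHom.flat_algebraMap_iff.mp
    ((HasRingHomProperty.Spec_iff (P := @Flat) (φ := CommRingCat.ofHom (algebraMap R C))).mp ‹Flat (sp R C).hom›)
  haveI : LocallyOfFinitePresentation (sp R C).hom := by
    haveI : LocallyOfFinitePresentation (Red.bc j H).hom :=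
      inferInstanceAs (LocallyOfFinitePresentation (pullback.snd H.hom j))
    rw [← Over.w aC]
    infer_instance
  have hCfp : Algebra.FinitePresentation R C := RingHom.finitePresentation_algebraMap.mp
    ((HasRingHomProperty.Spec_iff (P := @LocallyOfFinitePresentation)
      (φ := CommRingCat.ofHom (algebraMap R C))).mp ‹LocallyOfFinitePresentation (sp R C).hom›)
  obtain ⟨p, hp⟩ : s ∈ Set.range j := by rw [hV.range_fromSpec]; exact hsV
  obtain ⟨S', f, hf, ⟨y, hy⟩, M, iM, hM, ⟨e⟩⟩ := etale_nhd_of_hopf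
    (hft.of_surjective (φ : A →ₐ[R] C) hsurj) (isMultType_of_closed hA hft φ hsurj hCfp) (Red.bc j H) eC p
  obtain ⟨e₁⟩ := MultTypeBC.bc_bc f j H
  exact ⟨S', f ≫ j, inferInstance, ⟨y, by rw [Scheme.Hom.comp_apply, hy, hp]⟩, M, iM, hM, ⟨e₁.symm ≪≫ e⟩⟩

end Groth.Agent.MultTypeQI
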